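import Groth.Agent.H14.GeomBC.Regular
import Groth.Agent.H48.GeomNormal
import Groth.Agent.H26.RegularFlat

set_option autoImplicit false
set_option linter.style.haveILetI false
set_option linter.unusedSectionVars false
universe u

open scoped TensorProduct

namespace Groth.Agent.H14.GeomBC

open Groth.Agent.H48 IsLocalRing

section

variable {k : Type u} [Field k] {L : Type u} [Field L] [Algebra k L] {R : Type u} [CommRing R]
  [Algebra k R]

theorem exists_fg_intermediateField_mem_range (x : L ⊗[k] R) :
    ∃ E : IntermediateField k L, E.FG ∧ x ∈ (jE R E).range := by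
  induction x using TensorProduct.induction_on with
  | zero => exact ⟨⊥, IntermediateField.fg_bot, zero_mem _⟩
  | tmul a r =>
    refine ⟨IntermediateField.adjoin k {a},
      IntermediateField.fg_adjoin_of_finite (Set.finite_singleton a), ?_⟩
    exact ⟨(⟨a, IntermediateField.mem_adjoin_simple_self k a⟩ : IntermediateField.adjoin k {a}) ⊗ₜ r,
      rfl⟩
  | add x y hx hy =>
    obtain ⟨E₁, h₁, hx⟩ := hx
    obtain ⟨E₂, h₂, hy⟩ := hy
    refine ⟨E₁ ⊔ E₂, IntermediateField.fg_sup h₁ h₂, ?_⟩
    exact add_mem (jE_range_mono le_sup_left hx) (jE_range_mono le_sup_right hy)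

theorem exists_fg_intermediateField_finset (F : Finset (L ⊗[k] R)) :
    ∃ E : IntermediateField k L, E.FG ∧ ∀ x ∈ F, x ∈ (jE R E).range := by
  classical
  induction F using Finset.induction_on with
  | empty => exact ⟨⊥, IntermediateField.fg_bot, fun x hx => absurd hx (Finset.notMem_empty x)⟩
  | insert a s _ ih =>
    obtain ⟨E₁, h₁, hs⟩ := ih
    obtain ⟨E₂, h₂, ha⟩ := exists_fg_intermediateField_mem_range (R := R) a
    refine ⟨E₁ ⊔ E₂, IntermediateField.fg_sup h₁ h₂, fun x hx => ?_⟩
    rcases Finset.mem_insert.mp hx with rfl | hx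
    · exact jE_range_mono le_sup_right ha
    · exact jE_range_mono le_sup_left (hs x hx)

end

theorem isRegularLocalRing_quotient_of_eq_maximalIdeal {B : Type u} [CommRing B] [IsLocalRing B]
    (I : Ideal B) (h : I = maximalIdeal B) : IsRegularLocalRing (B ⧸ I) := by
  subst h
  letI : Field (B ⧸ maximalIdeal B) := Ideal.Quotient.field _
  infer_instance

/-- A flat local homomorphism `A → B` with `A` regular and `m_A B = m_B` has `B` regular. -/
theorem isRegularLocalRing_of_flat_of_map_maximalIdeal (A B : Type u) [CommRing A] [CommRing B]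
    [Algebra A B] [IsRegularLocalRing A] [IsLocalRing B] [IsNoetherianRing B]
    [IsLocalHom (algebraMap A B)] [Module.Flat A B]
    (h : (maximalIdeal A).map (algebraMap A B) = maximalIdeal B) : IsRegularLocalRing B := by
  haveI := isRegularLocalRing_quotient_of_eq_maximalIdeal _ h
  exact Groth.Agent.H26.isRegularLocalRing_of_flat_of_regular_fibre A B

/-- Flat `R' → R`, `Q` a prime of `R` generated by its contraction `Q'`, `R'_{Q'}` regular: then `R_Q`
is regular. -/
theorem isRegularLocalRing_of_flat_of_map_comap_eq (R' R : Type u) [CommRing R'] [CommRing R]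
    [Algebra R' R] [Module.Flat R' R] [IsNoetherianRing R] (Q : Ideal R) [Q.IsPrime]
    (hmap : (Q.comap (algebraMap R' R)).map (algebraMap R' R) = Q)
    [IsRegularLocalRing (Localization.AtPrime (Q.comap (algebraMap R' R)))] :
    IsRegularLocalRing (Localization.AtPrime Q) := by
  haveI : Q.LiesOver (Q.comap (algebraMap R' R)) := ⟨rfl⟩
  letI := Localization.AtPrime.algebraOfLiesOver (Q.comap (algebraMap R' R)) Q
  haveI hloc : IsLocalHom (algebraMap (Localization.AtPrime (Q.comap (algebraMap R' R)))
      (Localization.AtPrime Q)) :=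
    Localization.isLocalHom_localRingHom _ Q (algebraMap R' R) Ideal.LiesOver.over
  haveI hflatS : Module.Flat R (Localization.AtPrime Q) := IsLocalization.flat _ Q.primeCompl
  haveI hflatR : Module.Flat R' (Localization.AtPrime Q) := Module.Flat.trans R' R _
  haveI hflat' : Module.Flat (Localization.AtPrime (Q.comap (algebraMap R' R)))
      (Localization.AtPrime Q) :=
    (Module.flat_iff_of_isLocalization (Localization.AtPrime (Q.comap (algebraMap R' R)))
      (Q.comap (algebraMap R' R)).primeCompl _).mpr hflatR
  apply isRegularLocalRing_of_flat_of_map_maximalIdeal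
    (Localization.AtPrime (Q.comap (algebraMap R' R))) (Localization.AtPrime Q)
  rw [← Localization.AtPrime.map_eq_maximalIdeal, Ideal.map_map, ← IsScalarTower.algebraMap_eq,
    IsScalarTower.algebraMap_eq R' R (Localization.AtPrime Q), ← Ideal.map_map,
    hmap, Localization.AtPrime.map_eq_maximalIdeal]

/-- If `T` is geometrically regular over `k`, then `L ⊗ T` is regular for every field extension
`L/k` for which it is Noetherian. -/
theorem isRegularRing_tensor_of_isGeometricallyRegular_of_isNoetherianRing (k T : Type u) [Field k]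
    [CommRing T] [Algebra k T] (hT : CAlg.IsGeometricallyRegular k T)
    (L : Type u) [Field L] [Algebra k L] [IsNoetherianRing (L ⊗[k] T)] :
    IsRegularRing (L ⊗[k] T) := by
  rw [isRegularRing_iff]
  intro Q hQ
  obtain ⟨F, hF⟩ := (isNoetherianRing_iff_ideal_fg _).mp inferInstance Q
  obtain ⟨E, hEfg, hFE⟩ := exists_fg_intermediateField_finset (R := T) F
  haveI : Algebra.EssFiniteType k E := IntermediateField.essFiniteType_iff.mpr hEfg
  haveI : IsRegularRing (E ⊗[k] T) := isRegularRing_tensor_of_isGeometricallyRegular k T hT E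
  letI : Algebra (E ⊗[k] T) (L ⊗[k] T) := (jE T E).toRingHom.toAlgebra
  haveI hflat : Module.Flat (E ⊗[k] T) (L ⊗[k] T) := Groth.Agent.H48.GeomNormal.flat_jE (A := T) E
  refine isRegularLocalRing_of_flat_of_map_comap_eq (E ⊗[k] T) (L ⊗[k] T) Q ?_
  refine le_antisymm Ideal.map_comap_le ?_
  rw [← hF, Ideal.span_le]
  intro x hx
  obtain ⟨y, rfl⟩ := hFE x hx
  refine Ideal.mem_map_of_mem _ ?_
  rw [Ideal.mem_comap]
  exact Ideal.subset_span hx

end Groth.Agent.H14.GeomBC
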