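import Groth.Agent.H14.GeomBC.RegKey
import Groth.Agent.H48.GeomRedPI

set_option autoImplicit false
set_option linter.style.haveILetI false
set_option linter.unusedSectionVars false
universe u

open scoped TensorProduct

namespace Groth.Agent.H14.GeomBC

/-- If `k' ⊗ S` is regular for all finite purely inseparable `k'/k`, then `K ⊗ S` is regular for
every finitely generated field extension `K/k`. -/
theorem isRegularRing_tensor_of_purelyInseparable (k S : Type u) [Field k] [CommRing S]
    [Algebra k S]
    (h : ∀ (k' : Type u) [Field k'] [Algebra k k'], Module.Finite k k' → IsPurelyInseparable k k' →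
      IsRegularRing (k' ⊗[k] S))
    (K : Type u) [Field K] [Algebra k K] [Algebra.EssFiniteType k K] :
    IsRegularRing (K ⊗[k] S) := by
  obtain ⟨k', _, _, hfin, hpi, hsep⟩ :=
    Groth.Agent.H48.GeomRedPI.exists_finite_pi_residue_geomReduced (k := k) K
  exact isRegularRing_tensor_of_residue_sep k S K k' (h k' hfin hpi) hsep

/-- S2672. -/
theorem isGeometricallyRegular_iff (k S : Type u) [Field k] [CommRing S] [Algebra k S] :
    (CAlg.IsGeometricallyRegular k S ↔
        ∀ (k' : Type u) [Field k'] [Algebra k k'], Module.Finite k k' → IsPurelyInseparable k k' →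
          IsRegularRing (k' ⊗[k] S)) ∧
      (CAlg.IsGeometricallyRegular k S ↔
        ∀ (K : Type u) [Field K] [Algebra k K], Algebra.EssFiniteType k K →
          IsRegularRing (K ⊗[k] S)) := by
  refine ⟨⟨fun h k' _ _ hf _ => h k' hf, fun h k' _ _ hf => ?_⟩,
    ⟨fun h K _ _ hK => ?_, fun h k' _ _ hf => ?_⟩⟩
  · haveI : Module.Finite k k' := hf
    exact isRegularRing_tensor_of_purelyInseparable k S h k'
  · haveI : Algebra.EssFiniteType k K := hK
    exact isRegularRing_tensor_of_purelyInseparable k S (fun k' _ _ hf _ => h k' hf) K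
  · haveI : Module.Finite k k' := hf
    exact h k' inferInstance

/-- `K ⊗ S` is regular for every finitely generated field extension `K` of `k` when `S` is
geometrically regular. -/
theorem isRegularRing_tensor_of_isGeometricallyRegular (k S : Type u) [Field k] [CommRing S]
    [Algebra k S] (h : CAlg.IsGeometricallyRegular k S)
    (K : Type u) [Field K] [Algebra k K] [Algebra.EssFiniteType k K] :
    IsRegularRing (K ⊗[k] S) :=
  isRegularRing_tensor_of_purelyInseparable k S (fun k' _ _ hf _ => h k' hf) K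

/-- S2674. -/
theorem isGeometricallyRegular_iff_baseChange (k S : Type u) [Field k] [CommRing S] [Algebra k S]
    (K : Type u) [Field K] [Algebra k K] [Algebra.EssFiniteType k K] :
    CAlg.IsGeometricallyRegular k S ↔ CAlg.IsGeometricallyRegular K (K ⊗[k] S) := by
  constructor
  · intro hS K'' _ _ hf
    haveI : Module.Finite K K'' := hf
    letI : Algebra k K'' := ((algebraMap K K'').comp (algebraMap k K)).toAlgebra
    haveI : IsScalarTower k K K'' := IsScalarTower.of_algebraMap_eq (fun _ => rfl)
    haveI : Algebra.EssFiniteType k K'' := Algebra.EssFiniteType.comp k K K''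
    haveI : IsRegularRing (K'' ⊗[k] S) := isRegularRing_tensor_of_isGeometricallyRegular k S hS K''
    exact IsRegularRing.of_ringEquiv
      (Algebra.TensorProduct.cancelBaseChange k K K K'' S).toRingEquiv.symm
  · intro hK k' _ _ hf
    haveI : Module.Finite k k' := hf
    obtain ⟨m, hm⟩ := Ideal.exists_maximal (K ⊗[k] k')
    letI : Field ((K ⊗[k] k') ⧸ m) := Ideal.Quotient.field m
    letI : Algebra k' ((K ⊗[k] k') ⧸ m) :=
      ((Ideal.Quotient.mk m).comp
        (Algebra.TensorProduct.includeRight : k' →ₐ[k] K ⊗[k] k').toRingHom).toAlgebra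
    haveI : IsScalarTower k k' ((K ⊗[k] k') ⧸ m) := IsScalarTower.of_algebraMap_eq (fun x => by
      show algebraMap k ((K ⊗[k] k') ⧸ m) x =
        Ideal.Quotient.mk m ((Algebra.TensorProduct.includeRight : k' →ₐ[k] K ⊗[k] k')
          (algebraMap k k' x))
      rw [AlgHom.commutes]
      rfl)
    haveI : Module.Finite K ((K ⊗[k] k') ⧸ m) :=
      Module.Finite.of_surjective (Ideal.Quotient.mkₐ K m).toLinearMap
        (Ideal.Quotient.mkₐ_surjective K m)
    haveI : IsRegularRing (((K ⊗[k] k') ⧸ m) ⊗[K] (K ⊗[k] S)) :=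
      hK ((K ⊗[k] k') ⧸ m) inferInstance
    haveI : IsRegularRing (((K ⊗[k] k') ⧸ m) ⊗[k] S) :=
      IsRegularRing.of_ringEquiv
        (Algebra.TensorProduct.cancelBaseChange k K K ((K ⊗[k] k') ⧸ m) S).toRingEquiv
    haveI : IsRegularRing (((K ⊗[k] k') ⧸ m) ⊗[k'] (k' ⊗[k] S)) :=
      IsRegularRing.of_ringEquiv
        (Algebra.TensorProduct.cancelBaseChange k k' k' ((K ⊗[k] k') ⧸ m) S).toRingEquiv.symm
    haveI : IsRegularRing ((k' ⊗[k] S) ⊗[k'] ((K ⊗[k] k') ⧸ m)) :=
      IsRegularRing.of_ringEquiv
        (Algebra.TensorProduct.comm k' ((K ⊗[k] k') ⧸ m) (k' ⊗[k] S)).toRingEquiv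
    exact Groth.Agent.H47.isRegularRing_of_faithfullyFlat (k' ⊗[k] S)
      ((k' ⊗[k] S) ⊗[k'] ((K ⊗[k] k') ⧸ m))

end Groth.Agent.H14.GeomBC
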