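import Groth.Agent.H48.GeomNormal

set_option autoImplicit false
set_option linter.style.haveILetI false
set_option linter.unusedSectionVars false
universe u

open scoped TensorProduct

namespace Groth.Agent.H14.GeomBC

open EGA4

/-- Geometric normality is insensitive to an arbitrary base field extension. -/
theorem isGeomNormal_iff_baseChange (k S : Type u) [Field k] [CommRing S] [Algebra k S]
    (K : Type u) [Field K] [Algebra k K] :
    EGA4.IsGeomNormal k S ↔ EGA4.IsGeomNormal K (K ⊗[k] S) := by
  constructor
  · intro hS K' _ _ hf
    letI : Algebra k K' := ((algebraMap K K').comp (algebraMap k K)).toAlgebra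
    haveI : IsScalarTower k K K' := IsScalarTower.of_algebraMap_eq (fun _ => rfl)
    have h1 : IsNormalRing (K' ⊗[k] S) :=
      Groth.Agent.H48.GeomNormal.isNormalRing_of_purelyInseparable
        (fun k' _ _ hf' _ => hS k' hf') K'
    exact Groth.Agent.H47.isNormalRing_of_ringEquiv
      (Algebra.TensorProduct.cancelBaseChange k K K K' S).toRingEquiv.symm h1
  · intro hK k' _ _ hf
    have h1 : IsNormalRing (AlgebraicClosure K ⊗[K] (K ⊗[k] S)) :=
      Groth.Agent.H48.GeomNormal.isNormalRing_of_purelyInseparable
        (fun K' _ _ hf' _ => hK K' hf') (AlgebraicClosure K)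
    have h2 : IsNormalRing (AlgebraicClosure K ⊗[k] S) :=
      Groth.Agent.H47.isNormalRing_of_ringEquiv
        (Algebra.TensorProduct.cancelBaseChange k K K (AlgebraicClosure K) S).toRingEquiv h1
    haveI : Module.Finite k k' := hf
    let φ : k' →ₐ[k] AlgebraicClosure K := IsAlgClosed.lift
    letI : Algebra k' (AlgebraicClosure K) := φ.toRingHom.toAlgebra
    haveI : IsScalarTower k k' (AlgebraicClosure K) :=
      IsScalarTower.of_algebraMap_eq (fun x => (φ.commutes x).symm)
    exact Groth.Agent.H48.GeomNormal.isNormalRing_of_field_ext k' (AlgebraicClosure K) h2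

end Groth.Agent.H14.GeomBC
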