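import Groth.Agent.H14.GeomBC.Normal

set_option autoImplicit false
set_option linter.style.haveILetI false
set_option linter.unusedSectionVars false
universe u

open scoped TensorProduct

namespace Groth.Agent.H14.GeomBC

/-- A normal ring is reduced. -/
theorem isReduced_of_isNormalRing (R : Type u) [CommRing R] (h : EGA4.IsNormalRing R) :
    IsReduced R := by
  apply isReduced_ofLocalizationMaximal R
  intro P hP
  haveI := (h P).1
  infer_instance

/-- For a normal homomorphism `A → A'` and a field `K` over `A`, `K ⊗_A A'` is a normal ring. -/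
theorem isNormalRing_field_tensor_of_isNormalHom (A A' : Type u) [CommRing A] [CommRing A']
    [Algebra A A'] (h : EGA4.IsNormalHom A A') (K : Type u) [Field K] [Algebra A K] :
    EGA4.IsNormalRing (K ⊗[A] A') := by
  haveI hp : (RingHom.ker (algebraMap A K)).IsPrime := RingHom.ker_isPrime _
  have hf₂ : (RingHom.ker (algebraMap A K)).primeCompl ≤
      (IsUnit.submonoid K).comap (algebraMap A K) := by
    intro x hx
    change IsUnit (algebraMap A K x)
    exact IsUnit.mk0 _ (fun h0 => hx h0)
  letI : Algebra (RingHom.ker (algebraMap A K)).ResidueField K :=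
    (Ideal.ResidueField.lift (RingHom.ker (algebraMap A K)) (algebraMap A K) le_rfl hf₂).toAlgebra
  haveI : IsScalarTower A (RingHom.ker (algebraMap A K)).ResidueField K :=
    IsScalarTower.of_algebraMap_eq (fun x =>
      (Ideal.ResidueField.lift_algebraMap (I := RingHom.ker (algebraMap A K)) (algebraMap A K) le_rfl hf₂ x).symm)
  have h1 : EGA4.IsNormalRing
      (K ⊗[(RingHom.ker (algebraMap A K)).ResidueField] ((RingHom.ker (algebraMap A K)).Fiber A')) :=
    Groth.Agent.H48.GeomNormal.isNormalRing_of_purelyInseparable
      (fun k' _ _ hf' _ => h.2 (RingHom.ker (algebraMap A K)) k' hf') K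
  exact Groth.Agent.H47.isNormalRing_of_ringEquiv
    (Algebra.TensorProduct.cancelBaseChange A (RingHom.ker (algebraMap A K)).ResidueField
      (RingHom.ker (algebraMap A K)).ResidueField K A').toRingEquiv h1

theorem isReduced_tensor_field_of_isNormalHom (A A' : Type u) [CommRing A] [CommRing A']
    [Algebra A A'] (h : EGA4.IsNormalHom A A') (K : Type u) [Field K] [Algebra A K] :
    IsReduced (A' ⊗[A] K) := by
  haveI := isReduced_of_isNormalRing _ (isNormalRing_field_tensor_of_isNormalHom A A' h K)
  exact isReduced_of_injective (Algebra.TensorProduct.comm A A' K : A' ⊗[A] K →+* K ⊗[A] A')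
    (Algebra.TensorProduct.comm A A' K).injective

/-- Noetherian reduced case. -/
theorem isReduced_tensor_of_isNormalHom_of_isNoetherianRing (A A' : Type u) [CommRing A]
    [CommRing A'] [Algebra A A'] (h : EGA4.IsNormalHom A A') (B : Type u) [CommRing B]
    [Algebra A B] [IsNoetherianRing B] [IsReduced B] : IsReduced (A' ⊗[A] B) := by
  classical
  haveI := h.1
  have hfin : (minimalPrimes B).Finite := minimalPrimes.finite_of_isNoetherianRing B
  haveI : Fintype (minimalPrimes B) := hfin.fintype
  haveI hprime : ∀ q : minimalPrimes B, q.1.IsPrime := fun q => q.2.1.1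
  let φ : B →ₐ[A] (Π q : minimalPrimes B, q.1.ResidueField) :=
    AlgHom.pi (fun q => IsScalarTower.toAlgHom A B q.1.ResidueField)
  have hφ : Function.Injective φ := by
    rw [injective_iff_map_eq_zero]
    intro x hx
    have hmem : ∀ q : minimalPrimes B, x ∈ q.1 := fun q => by
      have h1 : algebraMap B q.1.ResidueField x = 0 := congrFun hx q
      exact Ideal.algebraMap_residueField_eq_zero.mp h1
    have hx' : x ∈ sInf (⊥ : Ideal B).minimalPrimes := by
      rw [Ideal.mem_sInf]
      intro q hq
      exact hmem ⟨q, hq⟩
    rw [Ideal.sInf_minimalPrimes] at hx'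
    exact (IsReduced.eq_zero x hx')
  have hinj : Function.Injective (Algebra.TensorProduct.map (AlgHom.id A A') φ) :=
    Module.Flat.lTensor_preserves_injective_linearMap _ hφ
  haveI : ∀ q : minimalPrimes B, IsReduced (A' ⊗[A] q.1.ResidueField) := fun q =>
    isReduced_tensor_field_of_isNormalHom A A' h q.1.ResidueField
  haveI : IsReduced (A' ⊗[A] (Π q : minimalPrimes B, q.1.ResidueField)) :=
    isReduced_of_injective
      (Algebra.TensorProduct.piRight A A A' (fun q : minimalPrimes B => q.1.ResidueField))
      (AlgEquiv.injective _)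
  exact isReduced_of_injective _ hinj

/-- S2729: reducedness is preserved by base change along a normal homomorphism. -/
theorem isReduced_tensor_of_isNormalHom (A A' : Type u) [CommRing A] [CommRing A']
    [IsNoetherianRing A] [Algebra A A'] (h : EGA4.IsNormalHom A A') (B : Type u) [CommRing B]
    [Algebra A B] [IsReduced B] : IsReduced (A' ⊗[A] B) := by
  haveI := h.1
  apply IsReduced.tensorProduct_of_flat_of_forall_fg
  intro B₀ hB₀
  haveI : Algebra.FiniteType A B₀ := (Subalgebra.fg_iff_finiteType B₀).1 hB₀
  haveI : IsNoetherianRing B₀ := Algebra.FiniteType.isNoetherianRing A B₀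
  haveI : IsReduced B₀ := isReduced_of_injective B₀.val Subtype.val_injective
  exact isReduced_tensor_of_isNormalHom_of_isNoetherianRing A A' h B₀

end Groth.Agent.H14.GeomBC
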