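import Groth.Agent.H47.SepSmoothSub
import Groth.Agent.H47.SmoothRegular
import Groth.Agent.H47.RegularDescent

set_option autoImplicit false
set_option linter.style.haveILetI false
set_option linter.unusedSectionVars false
universe u

open scoped TensorProduct

namespace Groth.Agent.H14.GeomBC

/-- A localization of a regular ring is regular. -/
theorem isRegularRing_localization (P : Type u) [CommRing P] [IsRegularRing P] (T : Submonoid P) :
    IsRegularRing (Localization T) := by
  have : IsNoetherianRing (Localization T) := IsLocalization.isNoetherianRing T _ inferInstance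
  rw [isRegularRing_iff]
  intro q hq
  have : (q.comap (algebraMap P (Localization T))).IsPrime := Ideal.comap_isPrime _ q
  exact IsRegularLocalRing.of_ringEquiv
    (IsLocalization.localizationLocalizationAtPrimeIsoLocalization T q).toRingEquiv

/-- A localization of a regular ring is regular. -/
theorem isRegularRing_of_isLocalization {P : Type u} [CommRing P] [IsRegularRing P] (T : Submonoid P)
    (Q : Type u) [CommRing Q] [Algebra P Q] [IsLocalization T Q] : IsRegularRing Q := by
  haveI := isRegularRing_localization P T
  exact IsRegularRing.of_ringEquiv (IsLocalization.algEquiv T (Localization T) Q).toRingEquiv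

/-- A finitely generated separable field extension `K/k` is the fraction field of a smooth
`k`-subalgebra. -/
theorem exists_subalgebra_smooth_isFractionRing (k : Type u) [Field k] (K : Type u) [Field K]
    [Algebra k K] [Algebra.EssFiniteType k K] [Algebra.IsGeometricallyReduced k K] :
    ∃ A : Subalgebra k K, Algebra.Smooth k A ∧ IsFractionRing A K := by
  obtain ⟨σ, hσ⟩ := (Algebra.essFiniteType_iff (R := k) (S := K)).mp inferInstance
  obtain ⟨A, hA, hsm⟩ := Groth.Agent.H47.exists_subalgebra_smooth_of_isGeometricallyReduced k K σ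
  refine ⟨A, hsm, ?_⟩
  have hle : Algebra.adjoin k (σ : Set K) ≤ A := Algebra.adjoin_le hA
  apply IsFractionRing.of_field
  intro z
  obtain ⟨t, ht, htu, hzt⟩ := hσ z
  refine ⟨⟨z * t, hle hzt⟩, ⟨t, hle ht⟩, ?_⟩
  change z = z * t / t
  rw [mul_div_cancel_right₀ _ htu.ne_zero]

/-- If `K` is the fraction field of a smooth `k`-algebra `A`, then `K ⊗ R` is regular for regular
`R`. -/
theorem isRegularRing_tensor_of_isFractionRing (k : Type u) [Field k] (K : Type u) [Field K]
    [Algebra k K] (A : Type u) [CommRing A] [Algebra k A] [Algebra A K] [IsScalarTower k A K]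
    [Algebra.Smooth k A] [IsFractionRing A K]
    (R : Type u) [CommRing R] [Algebra k R] [IsRegularRing R] : IsRegularRing (K ⊗[k] R) := by
  haveI : IsRegularRing (R ⊗[k] A) := Groth.Agent.H47.isRegularRing_of_smooth R (R ⊗[k] A)
  haveI : IsRegularRing (A ⊗[k] R) :=
    IsRegularRing.of_ringEquiv (Algebra.TensorProduct.comm k R A).toRingEquiv
  letI : Algebra (A ⊗[k] R) (K ⊗[k] R) :=
    (Algebra.TensorProduct.map (IsScalarTower.toAlgHom k A K) (AlgHom.id k R)).toRingHom.toAlgebra
  haveI : IsScalarTower A (A ⊗[k] R) (K ⊗[k] R) := IsScalarTower.of_algebraMap_eq (fun d => by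
    show algebraMap A (K ⊗[k] R) d =
      (Algebra.TensorProduct.map (IsScalarTower.toAlgHom k A K) (AlgHom.id k R))
        (algebraMap A (A ⊗[k] R) d)
    rw [Algebra.TensorProduct.algebraMap_apply, Algebra.TensorProduct.algebraMap_apply]
    simp)
  have H : (algebraMap (A ⊗[k] R) (K ⊗[k] R)).comp
      (Algebra.TensorProduct.includeRight : R →ₐ[k] A ⊗[k] R).toRingHom =
      (Algebra.TensorProduct.includeRight : R →ₐ[k] K ⊗[k] R).toRingHom := by
    ext a
    show (Algebra.TensorProduct.map (IsScalarTower.toAlgHom k A K) (AlgHom.id k R))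
      ((1 : A) ⊗ₜ[k] a) = (1 : K) ⊗ₜ[k] a
    simp
  haveI := IsLocalization.tensorProduct_tensorProduct k R (nonZeroDivisors A) K H
  exact isRegularRing_of_isLocalization
    (Algebra.algebraMapSubmonoid (A ⊗[k] R) (nonZeroDivisors A)) (K ⊗[k] R)

/-- Regularity ascends along a finitely generated separable field extension. -/
theorem isRegularRing_tensor_of_isGeometricallyReduced (k : Type u) [Field k] (K : Type u) [Field K]
    [Algebra k K] [Algebra.EssFiniteType k K] [Algebra.IsGeometricallyReduced k K]
    (R : Type u) [CommRing R] [Algebra k R] [IsRegularRing R] : IsRegularRing (K ⊗[k] R) := by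
  obtain ⟨A, hsm, hfr⟩ := exists_subalgebra_smooth_isFractionRing k K
  exact isRegularRing_tensor_of_isFractionRing k K A R

end Groth.Agent.H14.GeomBC
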