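import Groth.Agent.H14.GeomBC.RegSep
import Groth.Prelude.Def_Found

set_option autoImplicit false
set_option linter.style.haveILetI false
set_option linter.unusedSectionVars false
universe u

open scoped TensorProduct

namespace Groth.Agent.H14.GeomBC

/-- Key step: if `k' ⊗ S` is regular and the residue fields of `k' ⊗ K` are separable over `k'`,
then `K ⊗ S` is regular. -/
theorem isRegularRing_tensor_of_residue_sep (k S K : Type u) [Field k] [CommRing S] [Algebra k S]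
    [Field K] [Algebra k K] [Algebra.EssFiniteType k K]
    (k' : Type u) [Field k'] [Algebra k k'] (hreg : IsRegularRing (k' ⊗[k] S))
    (hsep : ∀ m : Ideal (k' ⊗[k] K), m.IsMaximal →
      Algebra.IsGeometricallyReduced k' ((k' ⊗[k] K) ⧸ m)) :
    IsRegularRing (K ⊗[k] S) := by
  obtain ⟨m, hm⟩ := Ideal.exists_maximal (k' ⊗[k] K)
  letI : Field ((k' ⊗[k] K) ⧸ m) := Ideal.Quotient.field m
  letI : Algebra K ((k' ⊗[k] K) ⧸ m) :=
    ((Ideal.Quotient.mk m).comp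
      (Algebra.TensorProduct.includeRight : K →ₐ[k] k' ⊗[k] K).toRingHom).toAlgebra
  haveI : IsScalarTower k K ((k' ⊗[k] K) ⧸ m) := IsScalarTower.of_algebraMap_eq (fun x => by
    show algebraMap k ((k' ⊗[k] K) ⧸ m) x =
      Ideal.Quotient.mk m ((Algebra.TensorProduct.includeRight : K →ₐ[k] k' ⊗[k] K)
        (algebraMap k K x))
    rw [AlgHom.commutes]
    rfl)
  haveI : Algebra.FiniteType (k' ⊗[k] K) ((k' ⊗[k] K) ⧸ m) :=
    Algebra.FiniteType.of_surjective (Algebra.ofId (k' ⊗[k] K) ((k' ⊗[k] K) ⧸ m))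
      Ideal.Quotient.mk_surjective
  haveI : Algebra.EssFiniteType k' ((k' ⊗[k] K) ⧸ m) :=
    Algebra.EssFiniteType.comp k' (k' ⊗[k] K) _
  haveI := hsep m hm
  haveI : IsRegularRing (((k' ⊗[k] K) ⧸ m) ⊗[k'] (k' ⊗[k] S)) :=
    isRegularRing_tensor_of_isGeometricallyReduced k' ((k' ⊗[k] K) ⧸ m) (k' ⊗[k] S)
  haveI : IsRegularRing (((k' ⊗[k] K) ⧸ m) ⊗[k] S) :=
    IsRegularRing.of_ringEquiv
      (Algebra.TensorProduct.cancelBaseChange k k' k' ((k' ⊗[k] K) ⧸ m) S).toRingEquiv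
  haveI : IsRegularRing (((k' ⊗[k] K) ⧸ m) ⊗[K] (K ⊗[k] S)) :=
    IsRegularRing.of_ringEquiv
      (Algebra.TensorProduct.cancelBaseChange k K K ((k' ⊗[k] K) ⧸ m) S).toRingEquiv.symm
  haveI : IsRegularRing ((K ⊗[k] S) ⊗[K] ((k' ⊗[k] K) ⧸ m)) :=
    IsRegularRing.of_ringEquiv
      (Algebra.TensorProduct.comm K ((k' ⊗[k] K) ⧸ m) (K ⊗[k] S)).toRingEquiv
  exact Groth.Agent.H47.isRegularRing_of_faithfullyFlat (K ⊗[k] S)
    ((K ⊗[k] S) ⊗[K] ((k' ⊗[k] K) ⧸ m))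

end Groth.Agent.H14.GeomBC
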