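import Groth.Agent.H14.GeomBC.SmoothIff

set_option autoImplicit false
set_option linter.style.haveILetI false
set_option linter.unusedSectionVars false
universe u

open scoped TensorProduct

namespace Groth.Agent.H14.GeomBC

/-- S4996: a finitely presented algebra is smooth iff it is flat with geometrically regular fibres. -/
theorem smooth_iff_flat_and_fibres (A B : Type u) [CommRing A] [CommRing B]
    [Algebra A B] [Algebra.FinitePresentation A B] :
    Algebra.Smooth A B ↔
      Module.Flat A B ∧ ∀ (p : Ideal A) [p.IsPrime],
        CAlg.IsGeometricallyRegular p.ResidueField (p.Fiber B) := by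
  constructor
  · intro h
    refine ⟨inferInstance, fun p hp => ?_⟩
    haveI : Algebra.Smooth p.ResidueField (p.Fiber B) := inferInstance
    exact Groth.Agent.H47.SF.isGeometricallyRegular_of_smooth p.ResidueField (p.Fiber B)
  · rintro ⟨hflat, hfib⟩
    apply Algebra.Smooth.of_formallySmooth_fiber
    intro p hp
    haveI : Algebra.FiniteType p.ResidueField (p.Fiber B) := inferInstance
    have := smooth_of_isGeometricallyRegular p.ResidueField (p.Fiber B) (hfib p)
    exact this.1

end Groth.Agent.H14.GeomBC
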