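import Groth.Agent.H14.GeomBC.RegAny
import Groth.Agent.H23.RegSmooth2
import Groth.Agent.H47.SmoothFibres

set_option autoImplicit false
set_option linter.style.haveILetI false
set_option linter.unusedSectionVars false
universe u

open scoped TensorProduct

namespace Groth.Agent.H14.GeomBC

/-- A finite type algebra over a field which is geometrically regular is smooth. -/
theorem smooth_of_isGeometricallyRegular (k T : Type u) [Field k] [CommRing T] [Algebra k T]
    [Algebra.FiniteType k T] (hT : CAlg.IsGeometricallyRegular k T) : Algebra.Smooth k T := by
  haveI : IsNoetherianRing (AlgebraicClosure k ⊗[k] T) :=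
    Algebra.FiniteType.isNoetherianRing (AlgebraicClosure k) _
  haveI : IsRegularRing (AlgebraicClosure k ⊗[k] T) :=
    isRegularRing_tensor_of_isGeometricallyRegular_of_isNoetherianRing k T hT (AlgebraicClosure k)
  haveI : Algebra.Smooth (AlgebraicClosure k) (AlgebraicClosure k ⊗[k] T) :=
    Groth.Agent.H23.RegSmooth.smooth_of_isRegularRing (AlgebraicClosure k) _
  exact Algebra.Smooth.of_smooth_tensorProduct_of_faithfullyFlat (AlgebraicClosure k)

/-- For finite type algebras over a field: smooth iff geometrically regular. -/
theorem smooth_iff_isGeometricallyRegular (k T : Type u) [Field k] [CommRing T] [Algebra k T]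
    [Algebra.FiniteType k T] : Algebra.Smooth k T ↔ CAlg.IsGeometricallyRegular k T :=
  ⟨fun _ => Groth.Agent.H47.SF.isGeometricallyRegular_of_smooth k T,
    smooth_of_isGeometricallyRegular k T⟩

end Groth.Agent.H14.GeomBC
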